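import Cfsg.Agent.Lib.Helper99.X3.Defs

set_option autoImplicit false
open scoped MatrixGroups

namespace Cfsg.Agent.Lib.Helper99.X3

variable {F : Type*} [Field F]

local notation "M3" => Matrix (Fin 3) (Fin 3) F

theorem ADJ (R : Subgroup (GL (Fin 3) F)) (P : GL (Fin 3) F) (x : GL (Fin 3) F)
    (hx : x ∈ Cfsg.Geo.specialLinear (Fin 3) F) (Q : GL (Fin 3) F) (c : F) (n0 : M3)
    (hcomm : ∀ d : F, Matrix.diagonal ![d, 1, 1] * n0 = n0 * Matrix.diagonal ![d, 1, 1])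
    (hx' : (x : M3) = c • ((Q : M3) * n0 * ((Q⁻¹ : GL (Fin 3) F) : M3)))
    (hN : ∀ n : GL (Fin 3) F, (n : M3) = c • ((P : M3) * n0 * ((P⁻¹ : GL (Fin 3) F) : M3)) →
      n ∈ Cfsg.Geo.subgroupNormalizer R) :
    ∃ g ∈ Cfsg.Geo.specialLinear (Fin 3) F, g⁻¹ * x * g ∈ Cfsg.Geo.subgroupNormalizer R := by
  set δ : Fˣ := Matrix.GeneralLinearGroup.det P * (Matrix.GeneralLinearGroup.det Q)⁻¹ with hδ
  have hdd : ∀ u v : F, Matrix.diagonal ![u, 1, 1] * Matrix.diagonal ![v, 1, 1]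
      = (Matrix.diagonal ![u * v, 1, 1] : M3) := by
    intro u v
    rw [Matrix.diagonal_mul_diagonal]
    congr 1
    funext i
    fin_cases i <;> simp
  have hd1 : (Matrix.diagonal ![(1 : F), 1, 1] : M3) = 1 := by
    rw [← Matrix.diagonal_one]
    congr 1
    funext i
    fin_cases i <;> simp
  let D : GL (Fin 3) F := ⟨Matrix.diagonal ![(δ : F), 1, 1], Matrix.diagonal ![((δ⁻¹ : Fˣ) : F), 1, 1],
    by rw [hdd, Units.mul_inv, hd1], by rw [hdd, Units.inv_mul, hd1]⟩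
  have hD : (D : M3) = Matrix.diagonal ![(δ : F), 1, 1] := rfl
  have hDdet : Matrix.GeneralLinearGroup.det D = δ := by
    apply Units.ext
    rw [Matrix.GeneralLinearGroup.val_det_apply, hD, Matrix.det_diagonal, Fin.prod_univ_three]
    simp
  have hy : ((Q⁻¹ * x * Q : GL (Fin 3) F) : M3) = c • n0 := by
    rw [Units.val_mul, Units.val_mul, hx', Matrix.mul_smul, Matrix.smul_mul]
    congr 1
    calc ((Q⁻¹ : GL (Fin 3) F) : M3) * ((Q : M3) * n0 * ((Q⁻¹ : GL (Fin 3) F) : M3)) * (Q : M3)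
        = (((Q⁻¹ : GL (Fin 3) F) : M3) * (Q : M3)) * n0 * (((Q⁻¹ : GL (Fin 3) F) : M3) * (Q : M3)) := by
          simp only [Matrix.mul_assoc]
      _ = n0 := by rw [← Units.val_mul, inv_mul_cancel, Units.val_one, one_mul, mul_one]
  have hDy : D * (Q⁻¹ * x * Q) = (Q⁻¹ * x * Q) * D := by
    apply Units.ext
    rw [Units.val_mul, Units.val_mul (Q⁻¹ * x * Q), hy, hD, Matrix.mul_smul, Matrix.smul_mul, hcomm]
  refine ⟨Q * D * P⁻¹, ?_, ?_⟩
  · unfold Cfsg.Geo.specialLinear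
    rw [MonoidHom.mem_ker, map_mul, map_mul, map_inv, hDdet, hδ]
    rw [mul_comm (Matrix.GeneralLinearGroup.det P), ← mul_assoc, mul_inv_cancel, one_mul,
      mul_inv_cancel]
  · have hg : (Q * D * P⁻¹)⁻¹ * x * (Q * D * P⁻¹) = P * (Q⁻¹ * x * Q) * P⁻¹ := by
      calc (Q * D * P⁻¹)⁻¹ * x * (Q * D * P⁻¹) = P * (D⁻¹ * ((Q⁻¹ * x * Q) * D)) * P⁻¹ := by group
        _ = P * (D⁻¹ * (D * (Q⁻¹ * x * Q))) * P⁻¹ := by rw [hDy]
        _ = P * (Q⁻¹ * x * Q) * P⁻¹ := by group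
    apply hN
    rw [hg, Units.val_mul, Units.val_mul, hy, Matrix.mul_smul, Matrix.smul_mul]

end Cfsg.Agent.Lib.Helper99.X3
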